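import Groth.Agent.Dix.K600.AtDef
import Groth.Agent.PicLoc.K729.Bc
import Mathlib.LinearAlgebra.TensorProduct.Basis

/-!
# The coboundary condition over all base changes (node R9 of S5709/N3)

* `exists_ideal` : for `z ∈ Γ(X_E, U₁₂)` there is an ideal `b` of `E` such that `ρ^* z` is a coboundary iff
  `ρ b = 0`;
* `exists_ideal_Bd` : the same for `E = W ⊗ k'` and an ideal of `W`.
-/

set_option autoImplicit false
universe u

open CategoryTheory CategoryTheory.Limits AlgebraicGeometry TensorProduct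

namespace K422.BdIdeal

open K600.AtDef
open Groth.Agent.Fdesc.LocGen hiding tmul smul_tmul tmul_smul

variable {k : Type u} [Field k] {X : Scheme.{u}} (f : X ⟶ Spec (CommRingCat.of k))
variable {E E' : Type u} [CommRing E] [Algebra k E] [CommRing E'] [Algebra k E']

/-- `E` as an object under `k`. -/
noncomputable def un (E : Type u) [CommRing E] [Algebra k E] : Under (CommRingCat.of k) :=
  Under.mk (CommRingCat.ofHom (algebraMap k E))

/-- Maps under `k`. -/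
noncomputable def unMap (h : E →ₐ[k] E') : un (k := k) E ⟶ un (k := k) E' :=
  Under.homMk (CommRingCat.ofHom h.toRingHom) (by
    change CommRingCat.ofHom _ ≫ CommRingCat.ofHom _ = CommRingCat.ofHom _
    rw [← CommRingCat.ofHom_comp]
    congr 1
    exact h.comp_algebraMap)

theorem gE_eq (h : E →ₐ[k] E') : gE f h = K729.Bc.bcMap f (unMap h) := by
  refine (K729.Bc.isPullback f (un (k := k) E)).hom_ext ?_ ?_
  · exact (gE_pr f h).trans (K729.Bc.bcMap_pr f (unMap h)).symm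
  · exact (gE_snd f h).trans (K729.Bc.bcMap_toD f (unMap h)).symm

theorem bm_eq (h : E →ₐ[k] E') (U : X.Opens) (z : BU f E U) :
    bm f h U z = K729.Bc.pull f (unMap h) U z := by
  have h1 : ∀ (g : XE f E' ⟶ XE f E) (_ : g = K729.Bc.bcMap f (unMap h)) (hg : pU f E' U ≤ g ⁻¹ᵁ pU f E U),
      (g.appLE (pU f E U) (pU f E' U) hg).hom z = K729.Bc.pull f (unMap h) U z := by
    rintro g rfl hg
    rfl
  exact h1 _ (gE_eq f h) _

variable (E) in
/-- The comparison map `E ⊗ Γ(X, U) → Γ(X_E, U_E)`. -/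
noncomputable def cm (U : X.Opens) : K729.Bc.Rg (un (k := k) E) ⊗[k] K729.Bc.S f U →+ BU f E U :=
  (K729.Bc.cmp f (un (k := k) E) U).toAddMonoidHom

theorem cm_bijective {U : X.Opens} (hU : IsAffineOpen U) : Function.Bijective (cm f E U) :=
  K729.Bc.bijective_cmp_of_isAffineOpen f (un (k := k) E) hU

theorem ores_cm {U V : X.Opens} (h : V ≤ U) (z) :
    ores (pU_mono f E h) (cm f E U z) = cm f E V ((K729.Bc.sres f h).toLinearMap.lTensor _ z) :=
  K729.Bc.ores_cmp f (un (k := k) E) h z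

theorem bm_cm (h : E →ₐ[k] E') (U : X.Opens) (z) :
    bm f h U (cm f E U z) =
      cm f E' U ((K729.Bc.rmap (unMap h)).toLinearMap.rTensor (K729.Bc.S f U) z) :=
  (bm_eq f h U _).trans (K729.Bc.pull_cmp f (unMap h) U z)

section lin

variable (U₁ U₂ : X.Opens)

/-- Restriction to the intersection. -/
noncomputable def r1 : K729.Bc.S f U₁ →ₗ[k] K729.Bc.S f (U₁ ⊓ U₂) := (K729.Bc.sres f inf_le_left).toLinearMap

/-- Restriction to the intersection. -/
noncomputable def r2 : K729.Bc.S f U₂ →ₗ[k] K729.Bc.S f (U₁ ⊓ U₂) := (K729.Bc.sres f inf_le_right).toLinearMap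

/-- `Γ(U₁₂) / (Γ(U₁) + Γ(U₂))`. -/
abbrev Mq : Type u := K729.Bc.S f (U₁ ⊓ U₂) ⧸ LinearMap.range ((r1 f U₁ U₂).coprod (r2 f U₁ U₂))

/-- The quotient map. -/
noncomputable def qq : K729.Bc.S f (U₁ ⊓ U₂) →ₗ[k] Mq f U₁ U₂ := Submodule.mkQ _

theorem qq_r1 : qq f U₁ U₂ ∘ₗ r1 f U₁ U₂ = 0 := by
  ext x
  exact (Submodule.Quotient.mk_eq_zero _).mpr ⟨(x, 0), by simp⟩

theorem qq_r2 : qq f U₁ U₂ ∘ₗ r2 f U₁ U₂ = 0 := by
  ext x
  exact (Submodule.Quotient.mk_eq_zero _).mpr ⟨(0, x), by simp⟩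

theorem exact_qq : Function.Exact ((r1 f U₁ U₂).coprod (r2 f U₁ U₂)) (qq f U₁ U₂) := by
  intro x
  rw [qq, Submodule.mkQ_apply, Submodule.Quotient.mk_eq_zero]
  rfl

variable {U₁ U₂}

theorem bd_iff (h₁ : IsAffineOpen U₁) (h₂ : IsAffineOpen U₂) (h₁₂ : IsAffineOpen (U₁ ⊓ U₂))
    (ζ : K729.Bc.Rg (un (k := k) E) ⊗[k] K729.Bc.S f (U₁ ⊓ U₂)) :
    Bd f U₁ U₂ (cm f E (U₁ ⊓ U₂) ζ) ↔ (qq f U₁ U₂).lTensor (K729.Bc.Rg (un (k := k) E)) ζ = 0 := by
  have b1 := cm_bijective f (E := E) h₁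
  have b2 := cm_bijective f (E := E) h₂
  have b12 := cm_bijective f (E := E) h₁₂
  have e1 : ∀ z, ores (pU_mono f E (inf_le_left : U₁ ⊓ U₂ ≤ U₁)) (cm f E U₁ z) =
      cm f E (U₁ ⊓ U₂) ((r1 f U₁ U₂).lTensor _ z) := fun z => ores_cm f inf_le_left z
  have e2 : ∀ z, ores (pU_mono f E (inf_le_right : U₁ ⊓ U₂ ≤ U₂)) (cm f E U₂ z) =
      cm f E (U₁ ⊓ U₂) ((r2 f U₁ U₂).lTensor _ z) := fun z => ores_cm f inf_le_right z
  constructor
  · rintro ⟨c1, c2, h⟩
    obtain ⟨ζ1, rfl⟩ := b1.2 c1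
    obtain ⟨ζ2, rfl⟩ := b2.2 c2
    rw [e1, e2, ← map_add] at h
    have h3 := b12.1 h
    rw [h3, map_add, ← LinearMap.comp_apply, ← LinearMap.comp_apply, ← LinearMap.lTensor_comp,
      ← LinearMap.lTensor_comp, qq_r1, qq_r2, LinearMap.lTensor_zero, LinearMap.zero_apply,
      LinearMap.lTensor_zero, LinearMap.zero_apply, add_zero]
  · intro h
    have hex := lTensor_exact (K729.Bc.Rg (un (k := k) E)) (exact_qq f U₁ U₂) (Submodule.mkQ_surjective _)
    obtain ⟨ξ, rfl⟩ := (hex ζ).mp h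
    have h4 : ∀ ξ : K729.Bc.Rg (un (k := k) E) ⊗[k] (K729.Bc.S f U₁ × K729.Bc.S f U₂), ∃ a b,
        ((r1 f U₁ U₂).coprod (r2 f U₁ U₂)).lTensor _ ξ = (r1 f U₁ U₂).lTensor _ a + (r2 f U₁ U₂).lTensor _ b := by
      intro ξ
      induction ξ using TensorProduct.induction_on with
      | zero => exact ⟨0, 0, by simp⟩
      | add x y hx hy =>
        obtain ⟨a, b, h⟩ := hx
        obtain ⟨a', b', h'⟩ := hy
        exact ⟨a + a', b + b', by rw [map_add, h, h', map_add, map_add]; abel⟩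
      | tmul e s =>
        exact ⟨e ⊗ₜ s.1, e ⊗ₜ s.2, by
          rw [LinearMap.lTensor_tmul, LinearMap.lTensor_tmul, LinearMap.lTensor_tmul, ← TensorProduct.tmul_add]
          rfl⟩
    obtain ⟨a, b, h5⟩ := h4 ξ
    refine ⟨cm f E U₁ a, cm f E U₂ b, ?_⟩
    rw [e1, e2, ← map_add, h5]

end lin

section coef

variable {A B : Type u} [CommRing A] [Algebra k A] [CommRing B] [Algebra k B] {M : Type u} [AddCommGroup M] [Module k M]
  {κ : Type*} (b : Module.Basis κ k M)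

open Classical in
/-- The coefficients of an element of `A ⊗ M`. -/
noncomputable def coef (x : A ⊗[k] M) (i : κ) : A := TensorProduct.equivFinsuppOfBasisRight b x i

theorem coef_zero (i : κ) : coef b (0 : A ⊗[k] M) i = 0 := by simp [coef]

theorem coef_add (x y : A ⊗[k] M) (i : κ) : coef b (x + y) i = coef b x i + coef b y i := by simp [coef]

theorem coef_tmul (a : A) (m : M) (i : κ) : coef b (a ⊗ₜ m) i = b.repr m i • a := by
  classical
  exact TensorProduct.equivFinsuppOfBasisRight_apply_tmul_apply b a m i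

theorem eq_zero_iff (x : A ⊗[k] M) : x = 0 ↔ ∀ i, coef b x i = 0 := by
  classical
  rw [← (TensorProduct.equivFinsuppOfBasisRight (M := A) b).map_eq_zero_iff, Finsupp.ext_iff]
  rfl

theorem coef_map (φ : A →ₐ[k] B) (x : A ⊗[k] M) (i : κ) :
    coef b (φ.toLinearMap.rTensor M x) i = φ (coef b x i) := by
  induction x using TensorProduct.induction_on with
  | zero => rw [map_zero, coef_zero, coef_zero, map_zero]
  | add x y hx hy => rw [map_add, coef_add, coef_add, map_add, hx, hy]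
  | tmul a m =>
    rw [LinearMap.rTensor_tmul, coef_tmul, coef_tmul, map_smul]
    rfl

theorem rTensor_eq_zero_iff (φ : A →ₐ[k] B) (x : A ⊗[k] M) :
    φ.toLinearMap.rTensor M x = 0 ↔ ∀ i, φ (coef b x i) = 0 := by
  rw [eq_zero_iff b]
  simp only [coef_map]

end coef

variable {U₁ U₂ : X.Opens}

/-- The coboundary condition after base change is given by an ideal. -/
theorem exists_ideal (h₁ : IsAffineOpen U₁) (h₂ : IsAffineOpen U₂) (h₁₂ : IsAffineOpen (U₁ ⊓ U₂))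
    (z : BU f E (U₁ ⊓ U₂)) :
    ∃ b : Ideal E, ∀ (E' : Type u) [CommRing E'] [Algebra k E'] (ρ : E →ₐ[k] E'),
      Bd f U₁ U₂ (bm f ρ (U₁ ⊓ U₂) z) ↔ ∀ c ∈ b, ρ c = 0 := by
  obtain ⟨ζ, rfl⟩ := (cm_bijective f (E := E) h₁₂).2 z
  let 𝒞 := Module.Basis.ofVectorSpace k (Mq f U₁ U₂)
  let c : Module.Basis.ofVectorSpaceIndex k (Mq f U₁ U₂) → E := fun i =>
    coef (A := K729.Bc.Rg (un (k := k) E)) 𝒞 ((qq f U₁ U₂).lTensor (K729.Bc.Rg (un (k := k) E)) ζ) i
  refine ⟨Ideal.span (Set.range c), fun E' _ _ ρ => ?_⟩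
  have h1 : (qq f U₁ U₂).lTensor (K729.Bc.Rg (un (k := k) E'))
      ((K729.Bc.rmap (unMap ρ)).toLinearMap.rTensor (K729.Bc.S f (U₁ ⊓ U₂)) ζ) =
      (K729.Bc.rmap (unMap ρ)).toLinearMap.rTensor (Mq f U₁ U₂)
        ((qq f U₁ U₂).lTensor (K729.Bc.Rg (un (k := k) E)) ζ) := by
    rw [← LinearMap.comp_apply, ← LinearMap.comp_apply, LinearMap.lTensor_comp_rTensor,
      LinearMap.rTensor_comp_lTensor]
  have h2 : Bd f U₁ U₂ (bm f ρ (U₁ ⊓ U₂) (cm f E (U₁ ⊓ U₂) ζ)) ↔ ∀ i, ρ (c i) = 0 := by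
    rw [bm_cm, bd_iff f h₁ h₂ h₁₂, h1]
    exact rTensor_eq_zero_iff 𝒞 (K729.Bc.rmap (unMap ρ)) _
  rw [h2]
  constructor
  · intro h x hx
    have h2 : Ideal.span (Set.range c) ≤ RingHom.ker ρ.toRingHom := by
      rw [Ideal.span_le]
      rintro _ ⟨i, rfl⟩
      exact h i
    exact h2 hx
  · intro h i
    exact h _ (Ideal.subset_span ⟨i, rfl⟩)

/-- R9 -/
theorem exists_ideal_Bd (h₁ : IsAffineOpen U₁) (h₂ : IsAffineOpen U₂) (h₁₂ : IsAffineOpen (U₁ ⊓ U₂))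
    (k' : Type u) [Field k'] [Algebra k k'] (W : Type u) [CommRing W] [Algebra k W]
    (z : BU f (W ⊗[k] k') (U₁ ⊓ U₂)) :
    ∃ b : Ideal W, ∀ (R : Type u) [CommRing R] [Algebra k R] (ρ : W →ₐ[k] R),
      Bd f U₁ U₂ (bm f (Algebra.TensorProduct.map ρ (AlgHom.id k k')) (U₁ ⊓ U₂) z) ↔
        ∀ c ∈ b, ρ c = 0 := by
  obtain ⟨b0, hb0⟩ := exists_ideal f h₁ h₂ h₁₂ z
  let 𝒞 := Module.Basis.ofVectorSpace k k'
  refine ⟨Ideal.span {w | ∃ x ∈ b0, ∃ i, w = coef 𝒞 x i}, fun R _ _ ρ => ?_⟩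
  rw [hb0 (R ⊗[k] k') (Algebra.TensorProduct.map ρ (AlgHom.id k k'))]
  have h1 : ∀ x : W ⊗[k] k', Algebra.TensorProduct.map ρ (AlgHom.id k k') x = 0 ↔ ∀ i, ρ (coef 𝒞 x i) = 0 :=
    fun x => rTensor_eq_zero_iff 𝒞 ρ x
  simp only [h1]
  constructor
  · intro h x hx
    have h2 : Ideal.span {w | ∃ x ∈ b0, ∃ i, w = coef 𝒞 x i} ≤ RingHom.ker ρ.toRingHom := by
      rw [Ideal.span_le]
      rintro _ ⟨x, hx, i, rfl⟩
      exact h x hx i
    exact h2 hx
  · intro h x hx i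
    exact h _ (Ideal.subset_span ⟨x, hx, i, rfl⟩)

end K422.BdIdeal
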