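import Groth.Agent.Dix.K422.BdIdeal
import Groth.Agent.Grpsch.PicGrp
import Mathlib.RingTheory.RingHom.Etale
import Mathlib.AlgebraicGeometry.Morphisms.Etale
import Mathlib.RingTheory.Etale.Kaehler

/-!
# Modules with the same image in the Picard scheme (node D8 of S5709/N3)
-/

set_option autoImplicit false
universe u

open CategoryTheory CategoryTheory.Limits AlgebraicGeometry TensorProduct

namespace K422.BdPhi

open K600.AtDef K422.BdIdeal
open Groth.Agent.Fdesc.LocGen hiding tmul smul_tmul tmul_smul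

theorem cl_eq_iff {Y : Scheme.{u}} {L L' : Y.Modules} :
    PicF.cl L = PicF.cl L' ↔ Nonempty (L ≅ L') := by
  constructor
  · intro h
    have h' := Quot.eqvGen_exact h
    clear h
    induction h' with
    | rel _ _ h => exact h
    | refl _ => exact ⟨Iso.refl _⟩
    | symm _ _ _ ih => exact ⟨ih.some.symm⟩
    | trans _ _ _ _ _ ih ih' => exact ⟨ih.some ≪≫ ih'.some⟩
  · intro h
    exact Quot.sound h

theorem pullCl_comp {X Y Z : Scheme.{u}} (g : X ⟶ Y) (h : Y ⟶ Z) (c : PicF.Cl Z) :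
    PicF.pullCl (g ≫ h) c = PicF.pullCl g (PicF.pullCl h c) := by
  induction c using Quot.ind with
  | mk L => exact Quot.sound ⟨((Scheme.Modules.pullbackComp g h).app L).symm⟩

theorem XTmap_fst {S X : Scheme.{u}} (f : X ⟶ S) {T T' : Over S} (g : T' ⟶ T) :
    PicF.XTmap f g ≫ pullback.fst f T.hom = pullback.fst f T'.hom :=
  (pullback.lift_fst _ _ _).trans (Category.comp_id _)

theorem XTmap_snd {S X : Scheme.{u}} (f : X ⟶ S) {T T' : Over S} (g : T' ⟶ T) :
    PicF.XTmap f g ≫ pullback.snd f T.hom = pullback.snd f T'.hom ≫ g.left :=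
  pullback.lift_snd _ _ _

theorem XTmap_comp {S X : Scheme.{u}} (f : X ⟶ S) {T T' T'' : Over S} (g : T' ⟶ T) (h : T'' ⟶ T') :
    PicF.XTmap f h ≫ PicF.XTmap f g = PicF.XTmap f (h ≫ g) := by
  apply pullback.hom_ext
  · rw [Category.assoc, XTmap_fst, XTmap_fst, XTmap_fst]
  · rw [Category.assoc, XTmap_snd, XTmap_snd, ← Category.assoc, XTmap_snd, Category.assoc]
    rfl

section etale

variable {k : Type u} [Field k] {E : Type u} [CommRing E] [Algebra k E]

/-- The vanishing of an element may be tested after flat base changes hitting all primes. -/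
theorem eq_zero_of_flat (c : E)
    (H : ∀ q : PrimeSpectrum E, ∃ (E' : Type u) (_ : CommRing E') (h : E →+* E'), h.Flat ∧
      q ∈ Set.range (PrimeSpectrum.comap h) ∧ h c = 0) : c = 0 := by
  by_contra hc
  let I : Ideal E := LinearMap.ker (LinearMap.toSpanSingleton E E c)
  have hI : I ≠ ⊤ := by
    intro h
    have : (1 : E) ∈ I := h ▸ Submodule.mem_top
    have h1 : (1 : E) • c = 0 := this
    rw [one_smul] at h1
    exact hc h1
  obtain ⟨m, hm, hIm⟩ := Ideal.exists_le_maximal I hI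
  obtain ⟨E', _, h, hf, ⟨Q, hQ⟩, h0⟩ := H ⟨m, hm.isPrime⟩
  algebraize [h]
  have hf' : Module.Flat E E' := hf
  have hex : Function.Exact I.subtype (LinearMap.toSpanSingleton E E c) := by
    intro x
    constructor
    · intro hx
      exact ⟨⟨x, hx⟩, rfl⟩
    · rintro ⟨x, rfl⟩
      exact x.2
  have hex' := Module.Flat.lTensor_exact E' hex
  have h1 : (LinearMap.toSpanSingleton E E c).lTensor E' ((1 : E') ⊗ₜ[E] (1 : E)) = 0 := by
    rw [LinearMap.lTensor_tmul, LinearMap.toSpanSingleton_apply, one_smul]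
    have h2 : (1 : E') ⊗ₜ[E] c = (algebraMap E E' c) ⊗ₜ[E] (1 : E) := by
      rw [Algebra.algebraMap_eq_smul_one, TensorProduct.smul_tmul, smul_eq_mul, mul_one]
    have h3 : algebraMap E E' c = 0 := h0
    rw [h2, h3, TensorProduct.zero_tmul]
  obtain ⟨t, ht⟩ := (hex' _).mp h1
  -- the map `E' ⊗ E → E'`
  have h4 : ∀ t : E' ⊗[E] I, (TensorProduct.rid E E') (I.subtype.lTensor E' t) ∈ Q.asIdeal := by
    intro t
    induction t using TensorProduct.induction_on with
    | zero => rw [map_zero, map_zero]; exact Q.asIdeal.zero_mem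
    | add x y hx hy => rw [map_add, map_add]; exact Q.asIdeal.add_mem hx hy
    | tmul e x =>
      rw [LinearMap.lTensor_tmul, TensorProduct.rid_tmul, Algebra.smul_def]
      refine Q.asIdeal.mul_mem_right _ ?_
      have h5 : x.1 ∈ m := hIm x.2
      have h6 : (PrimeSpectrum.comap h Q).asIdeal = m := congrArg PrimeSpectrum.asIdeal hQ
      rw [← h6] at h5
      exact h5
  have h5 := h4 t
  rw [ht, TensorProduct.rid_tmul, one_smul] at h5
  exact Q.isPrime.ne_top ((Ideal.eq_top_iff_one _).mpr h5)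

/-- Affine étale neighbourhoods. -/
theorem exists_affine (U : Scheme.Etale (Spec (CommRingCat.of E))) (y : U.left) :
    ∃ (E' : Type u) (_ : CommRing E') (_ : Algebra k E') (h : E →ₐ[k] E') (j : sp k E' ⟶ PicRel.ovr (sp k E) U),
      h.toRingHom.Etale ∧ j ≫ PicRel.ovrHom (sp k E) U = spMap h ∧
        (U.hom y : PrimeSpectrum E) ∈ Set.range (PrimeSpectrum.comap h.toRingHom) := by
  obtain ⟨_, ⟨W, hW, rfl⟩, hyW, -⟩ :=
    U.left.isBasis_affineOpens.exists_subset_of_mem_open (Set.mem_univ y) isOpen_univ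
  let B : CommRingCat.{u} := Γ(U.left, W)
  obtain ⟨φ, hφ⟩ := Spec.map_surjective (hW.fromSpec ≫ U.hom)
  let a : Algebra k B := (φ.hom.comp (algebraMap k E)).toAlgebra
  let h : E →ₐ[k] B := { φ.hom with commutes' := fun _ => rfl }
  have hU : Etale U.hom := U.prop
  have hWo : IsOpenImmersion hW.fromSpec := hW.isOpenImmersion_fromSpec
  have he : Etale (Spec.map φ) := by
    rw [hφ]
    infer_instance
  have he2 : φ.hom.Etale := (HasRingHomProperty.Spec_iff (P := @Etale)).mp he
  have hsp : (sp k E).hom = Spec.map (CommRingCat.ofHom (algebraMap k E)) := rfl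
  refine ⟨B, inferInstance, a, h, Over.homMk hW.fromSpec ?_, he2, ?_, ?_⟩
  · change hW.fromSpec ≫ U.hom ≫ Spec.map (CommRingCat.ofHom (algebraMap k E)) =
      Spec.map (CommRingCat.ofHom (φ.hom.comp (algebraMap k E)))
    rw [← Category.assoc, ← hφ, ← Spec.map_comp]
    rfl
  · ext1
    exact hφ.symm
  · obtain ⟨y', rfl⟩ : y ∈ Set.range hW.fromSpec := by
      rw [hW.range_fromSpec]
      exact hyW
    refine ⟨y', ?_⟩
    have h1 : (hW.fromSpec ≫ U.hom) y' = Spec.map φ y' := by rw [hφ]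
    exact h1.symm

end etale

section main

variable {k : Type u} [Field k] {X : Scheme.{u}} (f : X ⟶ Spec (CommRingCat.of k))
variable {E E' : Type u} [CommRing E] [Algebra k E] [CommRing E'] [Algebra k E'] {U₁ U₂ : X.Opens}

theorem bm_id {U : X.Opens} (hU : IsAffineOpen U) (b : BU f E U) : bm f (AlgHom.id k E) U b = b := by
  obtain ⟨ζ, rfl⟩ := (cm_bijective f (E := E) hU).2 b
  rw [bm_cm]
  congr 1
  exact LinearMap.congr_fun (LinearMap.rTensor_id (K729.Bc.S f U) (K729.Bc.Rg (un (k := k) E))) ζ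

theorem exists_extend_derivation (R A B : Type u) [CommRing R] [CommRing A] [CommRing B] [Algebra R A] [Algebra R B]
    [Algebra A B] [IsScalarTower R A B] [Algebra.FormallyEtale A B] (d : Derivation R A A) :
    ∃ d' : Derivation R B B, ∀ a : A, d' (algebraMap A B a) = algebraMap A B (d a) := by
  let e := KaehlerDifferential.tensorKaehlerEquivOfFormallyEtale R A B
  let f : Ω[A⁄R] →ₗ[A] B := (Algebra.linearMap A B) ∘ₗ d.liftKaehlerDifferential
  let g : B ⊗[A] Ω[A⁄R] →ₗ[B] B := LinearMap.liftBaseChange B f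
  refine ⟨(g ∘ₗ e.symm.toLinearMap).compDer (KaehlerDifferential.D R B), fun a => ?_⟩
  change g (e.symm (KaehlerDifferential.D R B (algebraMap A B a))) = _
  rw [KaehlerDifferential.tensorKaehlerEquivOfFormallyEtale_symm_D_algebraMap]
  simp only [g, LinearMap.liftBaseChange_tmul, one_smul]
  change algebraMap A B (d.liftKaehlerDifferential (KaehlerDifferential.D R A a)) = _
  rw [Derivation.liftKaehlerDifferential_comp_D]

/-- The statement `isDlog_sub`. -/
def SubHyp (U₁ U₂ : X.Opens) : Prop :=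
  ∀ (E : Type u) [CommRing E] [Algebra k E] (L : (XE f E).Modules) (D : Derivation k E E), PicF.IsInvertible L →
    ∀ w w' : BU f E (U₁ ⊓ U₂), IsDlog f D U₁ U₂ L w → IsDlog f D U₁ U₂ L w' → Bd f U₁ U₂ (w - w')

/-- The statement `isDlog_iso`. -/
def IsoHyp (U₁ U₂ : X.Opens) : Prop :=
  ∀ (E : Type u) [CommRing E] [Algebra k E] (L L' : (XE f E).Modules) (D : Derivation k E E) (_ : L ≅ L')
    (w : BU f E (U₁ ⊓ U₂)), IsDlog f D U₁ U₂ L w → IsDlog f D U₁ U₂ L' w

/-- The statement `isDlog_pull`. -/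
def PullHyp (U₁ U₂ : X.Opens) : Prop :=
  ∀ (E E' : Type u) [CommRing E] [Algebra k E] [CommRing E'] [Algebra k E'] (L : (XE f E).Modules)
    (_ : PicF.IsInvertible L) (D : Derivation k E E) (D' : Derivation k E' E') (h : E →ₐ[k] E')
    (_ : ∀ e, D' (h e) = h (D e)) (w : BU f E (U₁ ⊓ U₂)), IsDlog f D U₁ U₂ L w →
    IsDlog f D' U₁ U₂ ((Scheme.Modules.pullback (gE f h)).obj L) (bm f h (U₁ ⊓ U₂) w)

/-- D8 -/
theorem Bd_of_phi_eq (Hsub : SubHyp f U₁ U₂) (Hiso : IsoHyp f U₁ U₂) (Hpull : PullHyp f U₁ U₂)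
    (h₁ : IsAffineOpen U₁) (h₂ : IsAffineOpen U₂) (h₁₂ : IsAffineOpen (U₁ ⊓ U₂))
    (P : Over (Spec (CommRingCat.of k)))
    (φ : ∀ T : Over (Spec (CommRingCat.of k)), PicF.Cl (PicF.XT f T) → (T ⟶ P)) (hφ : PicRel.IsRelPic f P φ)
    (D : Derivation k E E) {L L' : (XE f E).Modules} (hL : PicF.IsInvertible L) (hL' : PicF.IsInvertible L')
    (heq : φ (sp k E) (PicF.cl L) = φ (sp k E) (PicF.cl L')) {w w' : BU f E (U₁ ⊓ U₂)}
    (hw : IsDlog f D U₁ U₂ L w) (hw' : IsDlog f D U₁ U₂ L' w') : Bd f U₁ U₂ (w - w') := by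
  obtain ⟨b, hb⟩ := exists_ideal f h₁ h₂ h₁₂ (w - w')
  obtain ⟨ι, U, hU, hcl⟩ := hφ.locallyInjective (sp k E) _ _ ⟨L, rfl, hL⟩ ⟨L', rfl, hL'⟩ heq
  have key : ∀ c ∈ b, c = 0 := by
    intro c hc
    refine eq_zero_of_flat c fun q => ?_
    obtain ⟨i, y, hy⟩ := hU q
    obtain ⟨E', _, _, h, j, het, hj, hq⟩ := exists_affine (k := k) (E := E) (U i) y
    have hflat : h.toRingHom.Flat := by
      algebraize [h.toRingHom]
      exact (inferInstance : Module.Flat E E')
    refine ⟨E', inferInstance, h.toRingHom, hflat, ?_, ?_⟩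
    · rw [← hy]
      exact hq
    · have hXT : PicF.XTmap f j ≫ PicF.XTmap f (PicRel.ovrHom (sp k E) (U i)) = gE f h := by
        unfold gE
        rw [← hj]
        exact XTmap_comp f _ _
      have h3 : PicF.pullCl (gE f h) (PicF.cl L) = PicF.pullCl (gE f h) (PicF.cl L') := by
        rw [← hXT, pullCl_comp, pullCl_comp, hcl i]
      obtain ⟨e⟩ := cl_eq_iff.mp h3
      obtain ⟨D', hD'⟩ : ∃ D' : Derivation k E' E', ∀ a, D' (h a) = h (D a) := by
        let _ : Algebra E E' := h.toRingHom.toAlgebra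
        have : IsScalarTower k E E' := IsScalarTower.of_algebraMap_eq fun r => (h.commutes r).symm
        have : Algebra.Etale E E' := het
        exact exists_extend_derivation k E E' D
      have e1 := Hiso E' _ _ D' e _ (Hpull E E' L hL D D' h hD' w hw)
      have e2 := Hpull E E' L' hL' D D' h hD' w' hw'
      have e3 := Hsub E' _ D' (isInvertible_pullback (gE f h) hL') _ _ e1 e2
      rw [← map_sub] at e3
      exact (hb E' h).mp e3 c hc
  have h4 := (hb E (AlgHom.id k E)).mpr fun c hc => by rw [key c hc]; exact map_zero _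
  rwa [bm_id f h₁₂] at h4

end main

end K422.BdPhi
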